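import Groth.Agent.AlgSpLib.LimPres
import Mathlib.AlgebraicGeometry.AffineTransitionLimit
import Mathlib.AlgebraicGeometry.Sites.Fpqc
import Mathlib.CategoryTheory.Limits.Shapes.Pullback.Connected

/-!
# Limit preservation is fppf local on the base
-/

set_option autoImplicit false
universe u

open CategoryTheory CategoryTheory.Limits AlgebraicGeometry Opposite

set_option backward.isDefEq.respectTransparency false

attribute [local instance] IsCofiltered.isConnected

namespace Groth.Agent.LimPresLocal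

open _root_.AlgSp Groth.Agent.AlgSpLib.LimPres

variable {S : Scheme.{u}} {I : Type u} [SmallCategory I] (D : I ⥤ Over S) (c : Cone D) (i₀ : I)
  {V : Scheme.{u}} (v : V ⟶ (D.obj i₀).left)

/-- base change of `v` to the stage `a` -/
noncomputable abbrev piece (a : CategoryTheory.Over i₀) : Over S :=
  Over.mk (pullback.fst (D.map a.hom).left v ≫ (D.obj a.left).hom)

/-- base change of `v` to the limit -/
noncomputable abbrev pieceInf : Over S := Over.mk (pullback.fst (c.π.app i₀).left v ≫ c.pt.hom)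

noncomputable def toStage (a : CategoryTheory.Over i₀) : piece D i₀ v a ⟶ D.obj a.left :=
  Over.homMk (pullback.fst _ _) rfl

noncomputable def toInf : pieceInf D c i₀ v ⟶ c.pt := Over.homMk (pullback.fst _ _) rfl

noncomputable def trans {a b : CategoryTheory.Over i₀} (m : b ⟶ a) : piece D i₀ v b ⟶ piece D i₀ v a :=
  Over.homMk (pullback.map _ _ _ _ (D.map m.left).left (𝟙 V) (𝟙 _)
    (by rw [Category.comp_id, ← Over.comp_left, ← D.map_comp, Over.w m]) (by simp)) (by
    show pullback.map _ _ _ _ _ _ _ _ _ ≫ pullback.fst _ _ ≫ _ = pullback.fst _ _ ≫ _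
    rw [pullback.lift_fst_assoc, Category.assoc, Over.w])

@[simp, reassoc] theorem trans_fst {a b : CategoryTheory.Over i₀} (m : b ⟶ a) :
    (trans D i₀ v m).left ≫ pullback.fst (D.map a.hom).left v = pullback.fst _ _ ≫ (D.map m.left).left :=
  pullback.lift_fst _ _ _

@[simp, reassoc] theorem trans_snd {a b : CategoryTheory.Over i₀} (m : b ⟶ a) :
    (trans D i₀ v m).left ≫ pullback.snd (D.map a.hom).left v = pullback.snd _ _ :=
  (pullback.lift_snd _ _ _).trans (Category.comp_id _)

noncomputable def prj (a : CategoryTheory.Over i₀) : pieceInf D c i₀ v ⟶ piece D i₀ v a :=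
  Over.homMk (pullback.map _ _ _ _ (c.π.app a.left).left (𝟙 V) (𝟙 _)
    (by rw [Category.comp_id, ← Over.comp_left, c.w]) (by simp)) (by
    show pullback.map _ _ _ _ _ _ _ _ _ ≫ pullback.fst _ _ ≫ _ = pullback.fst _ _ ≫ _
    rw [pullback.lift_fst_assoc, Category.assoc, Over.w]; rfl)

@[simp, reassoc] theorem prj_fst (a : CategoryTheory.Over i₀) :
    (prj D c i₀ v a).left ≫ pullback.fst (D.map a.hom).left v = pullback.fst _ _ ≫ (c.π.app a.left).left :=
  pullback.lift_fst _ _ _

@[simp, reassoc] theorem prj_snd (a : CategoryTheory.Over i₀) :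
    (prj D c i₀ v a).left ≫ pullback.snd (D.map a.hom).left v = pullback.snd _ _ :=
  (pullback.lift_snd _ _ _).trans (Category.comp_id _)

theorem trans_toStage {a b : CategoryTheory.Over i₀} (m : b ⟶ a) :
    trans D i₀ v m ≫ toStage D i₀ v a = toStage D i₀ v b ≫ D.map m.left :=
  Over.OverMorphism.ext (pullback.lift_fst _ _ _)

theorem prj_toStage (a : CategoryTheory.Over i₀) :
    prj D c i₀ v a ≫ toStage D i₀ v a = toInf D c i₀ v ≫ c.π.app a.left :=
  Over.OverMorphism.ext (pullback.lift_fst _ _ _)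

theorem prj_trans {a b : CategoryTheory.Over i₀} (m : b ⟶ a) :
    prj D c i₀ v b ≫ trans D i₀ v m = prj D c i₀ v a := by
  refine Over.OverMorphism.ext (pullback.hom_ext ?_ ?_)
  · simp only [Over.comp_left, Category.assoc, trans_fst, prj_fst_assoc, prj_fst]
    rw [← Over.comp_left, c.w]
  · simp

section change

variable {v} {V' : Scheme.{u}} {v' : V' ⟶ (D.obj i₀).left} (g : V' ⟶ V) (hg : g ≫ v = v')

noncomputable def change (a : CategoryTheory.Over i₀) : piece D i₀ v' a ⟶ piece D i₀ v a :=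
  Over.homMk (pullback.map _ _ _ _ (𝟙 _) g (𝟙 _) (by simp) (by simp [hg])) (by
    show pullback.map _ _ _ _ _ _ _ _ _ ≫ pullback.fst _ _ ≫ _ = pullback.fst _ _ ≫ _
    rw [pullback.lift_fst_assoc, Category.comp_id])

noncomputable def changeInf : pieceInf D c i₀ v' ⟶ pieceInf D c i₀ v :=
  Over.homMk (pullback.map _ _ _ _ (𝟙 _) g (𝟙 _) (by simp) (by simp [hg])) (by
    show pullback.map _ _ _ _ _ _ _ _ _ ≫ pullback.fst _ _ ≫ _ = pullback.fst _ _ ≫ _
    rw [pullback.lift_fst_assoc, Category.comp_id])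

@[simp, reassoc] theorem change_fst (a : CategoryTheory.Over i₀) :
    (change D i₀ g hg a).left ≫ pullback.fst (D.map a.hom).left v = pullback.fst _ _ :=
  (pullback.lift_fst _ _ _).trans (Category.comp_id _)

@[simp, reassoc] theorem change_snd (a : CategoryTheory.Over i₀) :
    (change D i₀ g hg a).left ≫ pullback.snd (D.map a.hom).left v = pullback.snd _ _ ≫ g :=
  pullback.lift_snd _ _ _

@[simp, reassoc] theorem changeInf_fst :
    (changeInf D c i₀ g hg).left ≫ pullback.fst (c.π.app i₀).left v = pullback.fst _ _ :=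
  (pullback.lift_fst _ _ _).trans (Category.comp_id _)

@[simp, reassoc] theorem changeInf_snd :
    (changeInf D c i₀ g hg).left ≫ pullback.snd (c.π.app i₀).left v = pullback.snd _ _ ≫ g :=
  pullback.lift_snd _ _ _

theorem change_trans {a b : CategoryTheory.Over i₀} (m : b ⟶ a) :
    change D i₀ g hg b ≫ trans D i₀ v m = trans D i₀ v' m ≫ change D i₀ g hg a := by
  refine Over.OverMorphism.ext (pullback.hom_ext ?_ ?_)
  · simp [change, trans]
  · simp [change, trans]

theorem prj_change (a : CategoryTheory.Over i₀) :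
    prj D c i₀ v' a ≫ change D i₀ g hg a = changeInf D c i₀ g hg ≫ prj D c i₀ v a := by
  refine Over.OverMorphism.ext (pullback.hom_ext ?_ ?_)
  · simp [change, changeInf, prj]
  · simp [change, changeInf, prj]

theorem change_toStage (a : CategoryTheory.Over i₀) :
    change D i₀ g hg a ≫ toStage D i₀ v a = toStage D i₀ v' a := by
  refine Over.OverMorphism.ext ?_
  exact change_fst D i₀ g hg a

theorem changeInf_toInf : changeInf D c i₀ g hg ≫ toInf D c i₀ v = toInf D c i₀ v' := by
  refine Over.OverMorphism.ext ?_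
  exact changeInf_fst D c i₀ g hg

end change

theorem map_sq {F : PSp S} {A B B' C : Over S} {p : A ⟶ B} {q : B ⟶ C} {r : A ⟶ B'} {t : B' ⟶ C}
    (e : p ≫ q = r ≫ t) (x : F.obj (op C)) : F.map p.op (F.map q.op x) = F.map r.op (F.map t.op x) := by
  rw [map_map, map_map, e]

/-- local limit preservation, read on the base change of `v` -/
theorem local_crit [IsCofiltered I] {F : PSp S} (hc : IsLimit ((Over.forget S).mapCone c))
    (hD : ∀ i, IsAffine (D.obj i).left) (hT : IsAffine c.pt.left) [IsAffine V] {U : Over S}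
    (hloc : IsLimitPreserving (S := U.left) ((Over.map U.hom).op ⋙ F)) (w : V ⟶ U.left)
    (hw : w ≫ U.hom = v ≫ (D.obj i₀).hom) :
    (∀ x : F.obj (op (pieceInf D c i₀ v)), ∃ (a : CategoryTheory.Over i₀) (y : F.obj (op (piece D i₀ v a))),
      F.map (prj D c i₀ v a).op y = x) ∧
    (∀ (a : CategoryTheory.Over i₀) (x y : F.obj (op (piece D i₀ v a))),
      F.map (prj D c i₀ v a).op x = F.map (prj D c i₀ v a).op y →
      ∃ (b : CategoryTheory.Over i₀) (m : b ⟶ a), F.map (trans D i₀ v m).op x = F.map (trans D i₀ v m).op y) := by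
  let E : CategoryTheory.Over i₀ ⥤ Over U.left :=
    { obj := fun a => Over.mk (pullback.snd (D.map a.hom).left v ≫ w)
      map := fun {a b} m => Over.homMk (trans D i₀ v m).left (trans_snd_assoc D i₀ v m w)
      map_id := fun a => by
        refine Over.OverMorphism.ext (pullback.hom_ext ?_ ?_) <;> simp
      map_comp := fun m m' => by
        refine Over.OverMorphism.ext (pullback.hom_ext ?_ ?_) <;> simp [trans] }
  let cE : Cone E :=
    { pt := Over.mk (pullback.snd (c.π.app i₀).left v ≫ w)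
      π :=
        { app := fun a => Over.homMk (prj D c i₀ v a).left (prj_snd_assoc D c i₀ v a w)
          naturality := fun a b m => by
            refine Over.OverMorphism.ext ?_
            show 𝟙 _ ≫ (prj D c i₀ v b).left = (prj D c i₀ v a).left ≫ (trans D i₀ v m).left
            rw [Category.id_comp, ← Over.comp_left, prj_trans] } }
  have hlim : IsLimit ((Over.forget U.left).mapCone cE) := by
    have h1 := isLimitOfPreserves (Over.pullback v ⋙ Over.forget V) (Over.isLimitConePost i₀ hc)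
    refine IsLimit.ofIsoLimit h1 (Cone.ext (Iso.refl _) fun a => ?_)
    refine pullback.hom_ext ?_ ?_
    · refine Eq.trans ?_ (pullback.lift_fst _ _ _).symm
      simp [cE]; rfl
    · refine Eq.trans ?_ ((pullback.lift_snd _ _ _).trans (Category.comp_id _)).symm
      simp [cE]; rfl
  have hEaff : ∀ a, IsAffine (E.obj a).left := fun a => by
    have := hD a.left
    have := hD i₀
    show IsAffine (pullback (D.map a.hom).left v)
    infer_instance
  have hcaff : IsAffine cE.pt.left := by
    have := hT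
    have := hD i₀
    have : IsAffine (((Functor.const I).obj c.pt).obj i₀).left := hT
    show IsAffine (pullback (c.π.app i₀).left v)
    exact isAffine_of_isAffineHom (pullback.fst (c.π.app i₀).left v)
  obtain ⟨hcol⟩ := hloc E cE hlim hEaff hcaff
  let ε : ∀ a, (CategoryTheory.Over.map U.hom).obj (E.obj a) ≅ piece D i₀ v a := fun a =>
    Over.isoMk (Iso.refl _) (by
      show 𝟙 _ ≫ pullback.fst _ _ ≫ _ = (pullback.snd _ _ ≫ w) ≫ U.hom
      rw [Category.id_comp, Category.assoc, hw, ← pullback.condition_assoc, Over.w])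
  let εc : (CategoryTheory.Over.map U.hom).obj cE.pt ≅ pieceInf D c i₀ v :=
    Over.isoMk (Iso.refl _) (by
      show 𝟙 _ ≫ pullback.fst _ _ ≫ _ = (pullback.snd _ _ ≫ w) ≫ U.hom
      rw [Category.id_comp, Category.assoc, hw, ← pullback.condition_assoc, Over.w]; rfl)
  have hπ : ∀ a, (CategoryTheory.Over.map U.hom).map (cE.π.app a) ≫ (ε a).hom = εc.hom ≫ prj D c i₀ v a :=
    fun a => Over.OverMorphism.ext (by simp [cE, ε, εc])
  have htr : ∀ {a b : CategoryTheory.Over i₀} (m : b ⟶ a),
      (CategoryTheory.Over.map U.hom).map (E.map m) ≫ (ε a).hom = (ε b).hom ≫ trans D i₀ v m :=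
    fun m => Over.OverMorphism.ext (by simp [E, ε])
  refine ⟨fun x => ?_, fun a x y e => ?_⟩
  · obtain ⟨a, y, hy⟩ := Types.jointly_surjective_of_isColimit hcol (F.map εc.hom.op x)
    change F.map ((CategoryTheory.Over.map U.hom).map (cE.π.app a.unop)).op y = F.map εc.hom.op x at hy
    refine ⟨a.unop, F.map (ε a.unop).inv.op y, ?_⟩
    have h1 : prj D c i₀ v a.unop ≫ (ε a.unop).inv = εc.inv ≫ (CategoryTheory.Over.map U.hom).map (cE.π.app a.unop) := by
      rw [Iso.eq_inv_comp, ← Category.assoc, Iso.comp_inv_eq, hπ]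
    refine (map_sq h1 y).trans ((congrArg (F.map εc.inv.op) hy).trans ?_)
    rw [map_map, Iso.inv_hom_id, op_id, Functor.map_id_apply]
  · have h : F.map ((CategoryTheory.Over.map U.hom).map (cE.π.app a)).op (F.map (ε a).hom.op x) =
        F.map ((CategoryTheory.Over.map U.hom).map (cE.π.app a)).op (F.map (ε a).hom.op y) := by
      rw [map_map, map_map, hπ, ← map_map, ← map_map, e]
    obtain ⟨b, m, hm⟩ := (Types.FilteredColimit.isColimit_eq_iff' hcol _ _).1 h
    change F.map ((CategoryTheory.Over.map U.hom).map (E.map m.unop)).op (F.map (ε a).hom.op x) =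
      F.map ((CategoryTheory.Over.map U.hom).map (E.map m.unop)).op (F.map (ε a).hom.op y) at hm
    refine ⟨b.unop, m.unop, ?_⟩
    rw [map_map, map_map, htr, ← map_map, ← map_map] at hm
    have key : ∀ t, F.map (ε b.unop).inv.op (F.map (ε b.unop).hom.op t) = t := fun t => by
      rw [map_map, Iso.inv_hom_id, op_id, Functor.map_id_apply]
    exact ((key _).symm.trans (congrArg (F.map (ε b.unop).inv.op) hm)).trans (key _)

/-- base changes of a covering are coverings -/
theorem piece_mem {X : Over S} {T₀ : Scheme.{u}} (f : X.left ⟶ T₀) {κ : Type u} (W : κ → Scheme.{u})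
    (w : ∀ k, W k ⟶ T₀) (hfl : ∀ k, Flat (w k)) (hfp : ∀ k, LocallyOfFinitePresentation (w k))
    (hs : ∀ t : T₀, ∃ (k : κ) (y : W k), w k y = t) :
    Sieve.ofArrows (fun k => Over.mk (pullback.fst f (w k) ≫ X.hom))
      (fun k => (Over.homMk (pullback.fst f (w k)) rfl : Over.mk (pullback.fst f (w k) ≫ X.hom) ⟶ X)) ∈
        AlgSp.J S X := by
  rw [GrothendieckTopology.mem_over_iff]
  refine GrothendieckTopology.superset_covering _
    (S := Sieve.ofArrows (fun k => pullback f (w k)) fun k => pullback.fst f (w k)) ?_ ?_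
  · rw [Sieve.ofArrows, Sieve.generate_le_iff]
    rintro Z _ ⟨k⟩
    rw [Sieve.overEquiv_iff]
    exact ⟨_, 𝟙 _, _, ⟨k⟩, Category.id_comp _⟩
  · refine Precoverage.generate_mem_toGrothendieck ?_
    refine (Scheme.ofArrows_mem_precoverage_iff _).2 ⟨fun x => ?_, fun k => ⟨?_, ?_⟩⟩
    · obtain ⟨k, y, hy⟩ := hs (f x)
      obtain ⟨z, hz, -⟩ := Scheme.Pullback.exists_preimage_pullback (f := f) (g := w k) x y hy.symm
      exact ⟨k, z, hz⟩
    · exact MorphismProperty.pullback_fst (P := @Flat) _ _ (hfl k)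
    · exact MorphismProperty.pullback_fst (P := @LocallyOfFinitePresentation) _ _ (hfp k)

/-- an fppf covering of the base restricts to a finite affine covering of an affine scheme -/
theorem exists_cover {ι : Type u} (U : ι → Over S) (hfl : ∀ j, Flat (U j).hom)
    (hfp : ∀ j, LocallyOfFinitePresentation (U j).hom) (hsurj : ∀ s : ↥S, ∃ (j : ι) (x : ↥(U j).left), (U j).hom x = s)
    (T : Over S) [IsAffine T.left] :
    ∃ (κ : Type u) (_ : Finite κ) (W : κ → Scheme.{u}) (w : ∀ k, W k ⟶ T.left) (j : κ → ι)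
      (e : ∀ k, W k ⟶ (U (j k)).left), (∀ k, IsAffine (W k)) ∧ (∀ k, Flat (w k)) ∧
        (∀ k, LocallyOfFinitePresentation (w k)) ∧ (∀ t : T.left, ∃ k y, w k y = t) ∧
        ∀ k, e k ≫ (U (j k)).hom = w k ≫ T.hom := by
  let K := Σ j : ι, (pullback (U j).hom T.hom).affineOpens
  let w : ∀ k : K, k.2.1.toScheme ⟶ T.left := fun k => k.2.1.ι ≫ pullback.snd _ _
  have hwfl : ∀ k, Flat (w k) := fun k => by
    have := hfl k.1
    infer_instance
  have hwfp : ∀ k, LocallyOfFinitePresentation (w k) := fun k => by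
    have := hfp k.1
    infer_instance
  have hopen : ∀ k, IsOpen (Set.range (w k)) := fun k => by
    have := hwfl k
    have := hwfp k
    exact (w k).isOpenMap.isOpen_range
  obtain ⟨s, hs⟩ := isCompact_univ.elim_finite_subcover _ hopen (fun t _ => by
    obtain ⟨j, x, hx⟩ := hsurj (T.hom t)
    obtain ⟨z, -, hz⟩ := Scheme.Pullback.exists_preimage_pullback (f := (U j).hom) (g := T.hom) x t hx
    obtain ⟨_, ⟨O, hO, rfl⟩, hzO, -⟩ :=
      (pullback (U j).hom T.hom).isBasis_affineOpens.exists_subset_of_mem_open (Set.mem_univ z) isOpen_univ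
    exact Set.mem_iUnion.2 ⟨⟨j, O, hO⟩, ⟨z, hzO⟩, hz⟩)
  refine ⟨↥s, inferInstance, fun k => k.1.2.1.toScheme, fun k => w k.1, fun k => k.1.1,
    fun k => k.1.2.1.ι ≫ pullback.fst _ _, fun k => k.1.2.2, fun k => hwfl k.1, fun k => hwfp k.1,
    fun t => ?_, fun k => by rw [Category.assoc, pullback.condition, Category.assoc]⟩
  obtain ⟨k, hk, y, hy⟩ := Set.mem_iUnion₂.1 (hs (Set.mem_univ t))
  exact ⟨⟨k, hk⟩, y, hy⟩

theorem exists_common {C : Type u} [Category.{u} C] [IsCofiltered C] {κ : Type u} [Finite κ] (b : C)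
    (b₂ : κ → C) (m : ∀ k, b₂ k ⟶ b) : ∃ (z : C) (n : z ⟶ b), ∀ k, ∃ o : z ⟶ b₂ k, o ≫ m k = n := by
  classical
  have := Fintype.ofFinite κ
  let O : Finset C := insert b (Finset.univ.image b₂)
  have hb : b ∈ O := Finset.mem_insert_self _ _
  have hk : ∀ k, b₂ k ∈ O := fun k => Finset.mem_insert_of_mem (Finset.mem_image_of_mem b₂ (Finset.mem_univ k))
  let H : Finset (Σ' (X Y : C) (_ : X ∈ O) (_ : Y ∈ O), X ⟶ Y) :=
    Finset.univ.image fun k => ⟨b₂ k, b, hk k, hb, m k⟩
  obtain ⟨z, T, hT⟩ := IsCofiltered.inf_exists O H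
  exact ⟨z, T hb, fun k => ⟨T (hk k), hT _ _ (Finset.mem_image_of_mem _ (Finset.mem_univ k))⟩⟩

theorem sheaf_arrows {F : PSp S} (hF : Presheaf.IsSheaf (AlgSp.J S) F) {X : Over S} {κ : Type u}
    (Y : κ → Over S) (f : ∀ k, Y k ⟶ X) (h : Sieve.ofArrows Y f ∈ AlgSp.J S X) :
    Presieve.IsSheafFor F (Presieve.ofArrows Y f) :=
  (Presieve.isSheafFor_iff_generate _).2 ((isSheaf_iff_isSheaf_of_type _ _).1 hF _ h)

/-- limit preservation is fppf local on the base -/
theorem isLimitPreserving_of_local {F : PSp S} (hF : Presheaf.IsSheaf (AlgSp.J S) F) {ι : Type u} (U : ι → Over S)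
    (hfl : ∀ j, Flat (U j).hom) (hfp : ∀ j, LocallyOfFinitePresentation (U j).hom)
    (hsurj : ∀ s : ↥S, ∃ (j : ι) (x : ↥(U j).left), (U j).hom x = s)
    (hloc : ∀ j, IsLimitPreserving (S := (U j).left) ((Over.map (U j).hom).op ⋙ F)) :
    IsLimitPreserving F := by
  intro I _ _ D c hc hD hT
  refine ⟨Types.FilteredColimit.isColimitOf _ _ (fun x => ?_) fun p q xp xq e => ?_⟩
  · obtain ⟨i₀⟩ : Nonempty I := IsCofiltered.nonempty
    have := hD i₀
    obtain ⟨κ, _, W, w, j, e, hW, hwf, hwp, hws, hew⟩ := exists_cover U hfl hfp hsurj (D.obj i₀)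
    let W₂ : κ × κ → Scheme.{u} := fun p => pullback (w p.1) (w p.2)
    let w₂ : ∀ p, W₂ p ⟶ (D.obj i₀).left := fun p => pullback.fst _ _ ≫ w p.1
    have hW₂ : ∀ p, IsAffine (W₂ p) := fun p => by
      have := hW p.1
      have := hW p.2
      show IsAffine (pullback (w p.1) (w p.2))
      infer_instance
    let o₀ : CategoryTheory.Over i₀ := CategoryTheory.Over.mk (𝟙 i₀)
    choose a y hy using fun k => (@local_crit S I _ D c i₀ (W k) (w k) _ F hc hD hT (hW k) _ (hloc (j k)) (e k) (hew k)).1
      (F.map (toInf D c i₀ (w k)).op x)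
    obtain ⟨b, nb, hb⟩ := exists_common o₀ a (fun k => CategoryTheory.Over.mkIdTerminal.from (a k))
    choose ob hob using hb
    let y' : ∀ k, F.obj (op (piece D i₀ (w k) b)) := fun k => F.map (trans D i₀ (w k) (ob k)).op (y k)
    have hy' : ∀ k, F.map (prj D c i₀ (w k) b).op (y' k) = F.map (toInf D c i₀ (w k)).op x := fun k => by
      rw [map_map, prj_trans, hy]
    have hg₁ : ∀ p : κ × κ, pullback.fst (w p.1) (w p.2) ≫ w p.1 = w₂ p := fun p => rfl
    have hg₂ : ∀ p : κ × κ, pullback.snd (w p.1) (w p.2) ≫ w p.2 = w₂ p := fun p => pullback.condition.symm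
    choose b₂ m₂ hm₂ using fun p : κ × κ => (@local_crit S I _ D c i₀ (W₂ p) (w₂ p) _ F hc hD hT (hW₂ p) _ (hloc (j p.1))
      (pullback.fst _ _ ≫ e p.1) (by rw [Category.assoc, hew, ← Category.assoc])).2 b
      (F.map (change D i₀ _ (hg₁ p) b).op (y' p.1)) (F.map (change D i₀ _ (hg₂ p) b).op (y' p.2)) (by
        rw [map_sq (prj_change D c i₀ _ (hg₁ p) b), map_sq (prj_change D c i₀ _ (hg₂ p) b), hy', hy', map_map,
          map_map, changeInf_toInf, changeInf_toInf])
    obtain ⟨z, n, hn⟩ := exists_common b b₂ m₂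
    let yz : ∀ k, F.obj (op (piece D i₀ (w k) z)) := fun k => F.map (trans D i₀ (w k) n).op (y' k)
    have hyz : ∀ k, F.map (prj D c i₀ (w k) z).op (yz k) = F.map (toInf D c i₀ (w k)).op x := fun k => by
      rw [map_map, prj_trans, hy']
    have hcomp : ∀ p : κ × κ, F.map (change D i₀ _ (hg₁ p) z).op (yz p.1) =
        F.map (change D i₀ _ (hg₂ p) z).op (yz p.2) := fun p => by
      obtain ⟨o, ho⟩ := hn p
      rw [map_sq (change_trans D i₀ _ (hg₁ p) n), map_sq (change_trans D i₀ _ (hg₂ p) n)]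
      have e : trans D i₀ (w₂ p) n = trans D i₀ (w₂ p) o ≫ trans D i₀ (w₂ p) (m₂ p) := by
        rw [← ho]
        exact Over.OverMorphism.ext (pullback.hom_ext (by simp [trans]) (by simp [trans]))
      rw [e, ← map_map, ← map_map, hm₂ p]
    have hsh := sheaf_arrows hF _ _ (piece_mem (X := D.obj z.left) (D.map z.hom).left W w hwf hwp hws)
    obtain ⟨r, hr, -⟩ := (Presieve.isSheafFor_arrows_iff _ _).1 hsh yz (fun k l Z gk gl h => by
      let g : Z ⟶ piece D i₀ (w₂ (k, l)) z := Over.homMk
        (pullback.lift (gk.left ≫ pullback.fst _ _)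
          (pullback.lift (gk.left ≫ pullback.snd _ _) (gl.left ≫ pullback.snd _ _) (by
            have h' : gk.left ≫ pullback.fst _ _ = gl.left ≫ pullback.fst _ _ := congrArg CommaMorphism.left h
            simp only [Category.assoc]
            rw [← pullback.condition, ← pullback.condition, reassoc_of% h']))
          (by simp only [Category.assoc, w₂, pullback.lift_fst_assoc]; rw [pullback.condition])) (by
        show pullback.lift _ _ _ ≫ pullback.fst _ _ ≫ _ = _
        rw [pullback.lift_fst_assoc, Category.assoc]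
        exact Over.w gk)
      have e₁ : g ≫ change D i₀ _ (hg₁ (k, l)) z = gk := by
        refine Over.OverMorphism.ext (pullback.hom_ext ?_ ?_) <;> simp [g, change]
      have e₂ : g ≫ change D i₀ _ (hg₂ (k, l)) z = gl := by
        refine Over.OverMorphism.ext (pullback.hom_ext ?_ ?_)
        · simp [g, change]
          exact congrArg CommaMorphism.left h
        · simp [g, change]
      rw [← e₁, ← e₂, ← map_map, ← map_map, hcomp])
    refine ⟨op z.left, r, ?_⟩
    show x = F.map (c.π.app z.left).op r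
    refine (sheaf_arrows hF _ _ (piece_mem (X := c.pt) (c.π.app i₀).left W w hwf hwp hws)).isSeparatedFor.ext ?_
    rintro Y _ ⟨k⟩
    show F.map (toInf D c i₀ (w k)).op x = F.map (toInf D c i₀ (w k)).op (F.map (c.π.app z.left).op r)
    erw [map_sq (prj_toStage D c i₀ (w k) z).symm, ← hyz]
    exact congrArg _ (hr k).symm
  · obtain ⟨i₁, mp, mq, -⟩ := IsCofilteredOrEmpty.cone_objs p.unop q.unop
    have := hD i₁
    obtain ⟨κ, _, W, w, j, e', hW, hwf, hwp, hws, hew⟩ := exists_cover U hfl hfp hsurj (D.obj i₁)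
    let o₀ : CategoryTheory.Over i₁ := CategoryTheory.Over.mk (𝟙 i₁)
    let X₁ : F.obj (op (D.obj i₁)) := F.map (D.map mp).op xp
    let Y₁ : F.obj (op (D.obj i₁)) := F.map (D.map mq).op xq
    have hXY : F.map (c.π.app i₁).op X₁ = F.map (c.π.app i₁).op Y₁ := by
      erw [map_map, map_map, c.w mp, c.w mq]
      exact e
    choose a m hm using fun k => (@local_crit S I _ D c i₁ (W k) (w k) _ F hc hD hT (hW k) _ (hloc (j k)) (e' k) (hew k)).2 o₀
      (F.map (toStage D i₁ (w k) o₀).op X₁) (F.map (toStage D i₁ (w k) o₀).op Y₁) (by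
        rw [map_sq (prj_toStage D c i₁ (w k) o₀), map_sq (prj_toStage D c i₁ (w k) o₀)]
        exact congrArg _ hXY)
    obtain ⟨z, n, hn⟩ := exists_common o₀ a m
    refine ⟨op z.left, (n.left ≫ mp).op, (n.left ≫ mq).op, ?_⟩
    show F.map (D.map (n.left ≫ mp)).op xp = F.map (D.map (n.left ≫ mq)).op xq
    rw [D.map_comp, D.map_comp, ← map_map, ← map_map]
    refine (sheaf_arrows hF _ _ (piece_mem (X := D.obj z.left) (D.map z.hom).left W w hwf hwp hws)).isSeparatedFor.ext ?_
    rintro Z _ ⟨k⟩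
    show F.map (toStage D i₁ (w k) z).op (F.map (D.map n.left).op X₁) =
      F.map (toStage D i₁ (w k) z).op (F.map (D.map n.left).op Y₁)
    rw [map_sq (trans_toStage D i₁ (w k) n).symm, map_sq (trans_toStage D i₁ (w k) n).symm]
    obtain ⟨o, ho⟩ := hn k
    have e₂ : trans D i₁ (w k) n = trans D i₁ (w k) o ≫ trans D i₁ (w k) (m k) := by
      rw [← ho]
      exact Over.OverMorphism.ext (pullback.hom_ext (by simp [trans]) (by simp [trans]))
    rw [e₂, ← map_map, ← map_map, hm k]

end Groth.Agent.LimPresLocal
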